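import Mathlib

/-!
The solutions of the class equations of a core-free group with element orders at most five.
-/

set_option autoImplicit false

namespace Cfsg.Agent.Lib.SpecFive.Arith

theorem pow_bound (r : ℚ) (h0 : 0 < r) (h1 : r ≤ 1) {j n : ℕ} (h : n ≤ j) :
    0 < r ^ j ∧ r ^ j ≤ r ^ n :=
  ⟨pow_pos h0 j, pow_le_pow_of_le_one h0.le h1 h⟩

/-- The four cases for an exponent of three. -/
theorem cases_three {a : ℕ} (ha : 1 ≤ a) {w : ℚ} (hw : (1 / 3 : ℚ) ^ a = w) :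
    (a = 1 ∧ w = 1 / 3) ∨ (a = 2 ∧ w = 1 / 9) ∨ (a = 3 ∧ w = 1 / 27) ∨ (a = 4 ∧ w = 1 / 81) ∨
      (5 ≤ a ∧ w ≤ 1 / 243) := by
  subst hw
  by_cases h : 5 ≤ a
  · exact Or.inr (Or.inr (Or.inr (Or.inr ⟨h,
      (pow_bound (1 / 3) (by norm_num) (by norm_num) h).2.trans (by norm_num)⟩)))
  · interval_cases a <;> norm_num

theorem cases_five {b : ℕ} (hb : 1 ≤ b) {z : ℚ} (hz : (1 / 5 : ℚ) ^ b = z) :
    (b = 1 ∧ z = 1 / 5) ∨ (b = 2 ∧ z = 1 / 25) ∨ (b = 3 ∧ z = 1 / 125) ∨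
      (4 ≤ b ∧ z ≤ 1 / 625) := by
  subst hz
  by_cases h : 4 ≤ b
  · exact Or.inr (Or.inr (Or.inr ⟨h,
      (pow_bound (1 / 5) (by norm_num) (by norm_num) h).2.trans (by norm_num)⟩))
  · interval_cases b <;> norm_num

theorem cases_two {j : ℕ} (hj : 1 ≤ j) {u : ℚ} (hu : (1 / 2 : ℚ) ^ j = u) :
    (j = 1 ∧ u = 1 / 2) ∨ (j = 2 ∧ u = 1 / 4) ∨ (j = 3 ∧ u = 1 / 8) ∨ (j = 4 ∧ u = 1 / 16) ∨
      (j = 5 ∧ u = 1 / 32) ∨ (j = 6 ∧ u = 1 / 64) ∨ (j = 7 ∧ u = 1 / 128) ∨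
      (8 ≤ j ∧ u ≤ 1 / 256) := by
  subst hu
  by_cases h : 8 ≤ j
  · exact Or.inr (Or.inr (Or.inr (Or.inr (Or.inr (Or.inr (Or.inr ⟨h,
      (pow_bound (1 / 2) (by norm_num) (by norm_num) h).2.trans (by norm_num)⟩))))))
  · interval_cases j <;> norm_num

theorem cases_four {m : ℕ} (hm : 1 ≤ m) {u : ℚ} (hu : (1 / 4 : ℚ) ^ m = u) :
    (m = 1 ∧ u = 1 / 4) ∨ (m = 2 ∧ u = 1 / 16) ∨ (m = 3 ∧ u = 1 / 64) ∨ (m = 4 ∧ u = 1 / 256) ∨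
      (m = 5 ∧ u = 1 / 1024) ∨ (m = 6 ∧ u = 1 / 4096) ∨ (7 ≤ m ∧ u ≤ 1 / 16384) := by
  subst hu
  by_cases h : 7 ≤ m
  · exact Or.inr (Or.inr (Or.inr (Or.inr (Or.inr (Or.inr ⟨h,
      (pow_bound (1 / 4) (by norm_num) (by norm_num) h).2.trans (by norm_num)⟩)))))
  · interval_cases m <;> norm_num

end Cfsg.Agent.Lib.SpecFive.Arith
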