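import Cfsg.Agent.Lib.SpecFive.Arith.Basic

/-!
The class equation with Sylow 2-subgroups meeting trivially.
-/

set_option autoImplicit false

namespace Cfsg.Agent.Lib.SpecFive.Arith

variable {a b c3 c5 : ℕ}

/-- Trivial intersection of Sylow 2-subgroups. -/
theorem ti_case {j e : ℕ} (ha : 1 ≤ a) (hb : 1 ≤ b)
    (h3 : c3 = 1 ∨ c3 = 2 ∨ c3 = 4 ∨ c3 = 5 ∨ c3 = 8) (d3 : c3 ∣ 3 ^ a - 1)
    (h5 : c5 = 1 ∨ c5 = 2 ∨ c5 = 3 ∨ c5 = 4 ∨ c5 = 8) (d5 : c5 ∣ 5 ^ b - 1)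
    (he : e = 1 ∧ 1 ≤ j ∨ e = 3 ∧ 2 ≤ j ∨ e = 5 ∧ 4 ≤ j)
    (eq : (1 - (1 / 2 : ℚ) ^ j) / e + (1 - (1 / 3 : ℚ) ^ a) / c3 + (1 - (1 / 5 : ℚ) ^ b) / c5 +
      (1 / 2 : ℚ) ^ j * (1 / 3 : ℚ) ^ a * (1 / 5 : ℚ) ^ b = 1) :
    2 ^ j * 3 ^ a * 5 ^ b = 60 := by
  obtain ⟨w0, w1⟩ := pow_bound (1 / 3) (by norm_num) (by norm_num) ha
  obtain ⟨z0, z1⟩ := pow_bound (1 / 5) (by norm_num) (by norm_num) hb
  rw [pow_one] at w1 z1
  generalize hw : (1 / 3 : ℚ) ^ a = w at *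
  generalize hz : (1 / 5 : ℚ) ^ b = z at *
  have hw' := cases_three ha hw
  have hz' := cases_five hb hz
  obtain ⟨hj, U, hU, u1⟩ : 1 ≤ j ∧ ∃ U : ℚ,
      (e = 1 ∧ U = 1 / 2 ∨ e = 3 ∧ U = 1 / 4 ∨ e = 5 ∧ U = 1 / 16) ∧ (1 / 2 : ℚ) ^ j ≤ U := by
    rcases he with ⟨rfl, hj⟩ | ⟨rfl, hj⟩ | ⟨rfl, hj⟩
    · exact ⟨hj, 1 / 2, by simp,
        (pow_bound _ (by norm_num) (by norm_num) hj).2.trans (by norm_num)⟩
    · exact ⟨by omega, 1 / 4, by simp,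
        (pow_bound _ (by norm_num) (by norm_num) hj).2.trans (by norm_num)⟩
    · exact ⟨by omega, 1 / 16, by simp,
        (pow_bound _ (by norm_num) (by norm_num) hj).2.trans (by norm_num)⟩
  have u0 : (0 : ℚ) < (1 / 2) ^ j := pow_pos (by norm_num) j
  generalize hu : (1 / 2 : ℚ) ^ j = u at *
  have hu' := cases_two hj hu
  have t0 : 0 < u * w * z := by positivity
  have t1 : u * w * z ≤ U * (w * (1 / 5)) := by
    rw [mul_assoc]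
    exact mul_le_mul u1 (mul_le_mul_of_nonneg_left z1 w0.le) (by positivity) (by linarith)
  have t2 : u * w * z ≤ U * ((1 / 3) * z) := by
    rw [mul_assoc]
    exact mul_le_mul u1 (mul_le_mul_of_nonneg_right w1 z0.le) (by positivity) (by linarith)
  have t3 : u * w * z ≤ u * ((1 / 3) * (1 / 5)) := by
    rw [mul_assoc]
    exact mul_le_mul_of_nonneg_left (mul_le_mul w1 z1 z0.le (by norm_num)) u0.le
  clear hu hw hz he
  rcases hU with ⟨rfl, rfl⟩ | ⟨rfl, rfl⟩ | ⟨rfl, rfl⟩ <;>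
    rcases h3 with rfl | rfl | rfl | rfl | rfl <;>
    rcases h5 with rfl | rfl | rfl | rfl | rfl <;>
    first
    | linarith
    | (rcases hw' with ⟨rfl, rfl⟩ | ⟨rfl, rfl⟩ | ⟨rfl, rfl⟩ | ⟨rfl, rfl⟩ | ⟨-, hwb⟩ <;>
        first
        | exact absurd d3 (by decide)
        | linarith
        | (rcases hz' with ⟨rfl, rfl⟩ | ⟨rfl, rfl⟩ | ⟨rfl, rfl⟩ | ⟨-, hzb⟩ <;>
            first
            | exact absurd d5 (by decide)
            | linarith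
            | (rcases hu' with ⟨rfl, rfl⟩ | ⟨rfl, rfl⟩ | ⟨rfl, rfl⟩ | ⟨rfl, rfl⟩ | ⟨rfl, rfl⟩ |
                ⟨rfl, rfl⟩ | ⟨rfl, rfl⟩ | ⟨-, hub⟩ <;>
                first
                | linarith
                | norm_num)))

end Cfsg.Agent.Lib.SpecFive.Arith
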