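import Cfsg.Agent.Lib.SpecFive.Arith.Basic

/-!
The class equation with two maximal intersections.
-/

set_option autoImplicit false

namespace Cfsg.Agent.Lib.SpecFive.Arith

variable {a b c3 c5 : ℕ}

/-- Two maximal intersections. -/
theorem two_case {s m e : ℕ} (ha : 1 ≤ a) (hb : 1 ≤ b)
    (h3 : c3 = 1 ∨ c3 = 2 ∨ c3 = 4 ∨ c3 = 5 ∨ c3 = 8) (d3 : c3 ∣ 3 ^ a - 1)
    (h5 : c5 = 1 ∨ c5 = 2 ∨ c5 = 3 ∨ c5 = 4 ∨ c5 = 8) (d5 : c5 ∣ 5 ^ b - 1)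
    (hs : s = 8 ∧ m = 2 ∨ s = 64 ∧ m = 36) (he : e = 1 ∨ e = 3 ∨ e = 5)
    (eq : 1 / (s : ℚ) + m / (s * e) + (1 - (1 / 3 : ℚ) ^ a) / c3 +
      (1 - (1 / 5 : ℚ) ^ b) / c5 + 1 / s * (1 / 3 : ℚ) ^ a * (1 / 5 : ℚ) ^ b = 1) :
    s * 3 ^ a * 5 ^ b = 360 := by
  obtain ⟨w0, w1⟩ := pow_bound (1 / 3) (by norm_num) (by norm_num) ha
  obtain ⟨z0, z1⟩ := pow_bound (1 / 5) (by norm_num) (by norm_num) hb
  rw [pow_one] at w1 z1
  generalize hw : (1 / 3 : ℚ) ^ a = w at *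
  generalize hz : (1 / 5 : ℚ) ^ b = z at *
  have hw' := cases_three ha hw
  have hz' := cases_five hb hz
  have t0 : 0 < w * z := by positivity
  have t1 : w * z ≤ w * (1 / 5) := mul_le_mul_of_nonneg_left z1 w0.le
  have t2 : w * z ≤ (1 / 3) * z := mul_le_mul_of_nonneg_right w1 z0.le
  clear hw hz
  rcases hs with ⟨rfl, rfl⟩ | ⟨rfl, rfl⟩ <;> rcases he with rfl | rfl | rfl <;>
    rcases h3 with rfl | rfl | rfl | rfl | rfl <;>
    rcases h5 with rfl | rfl | rfl | rfl | rfl <;>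
    first
    | linarith
    | (rcases hw' with ⟨rfl, rfl⟩ | ⟨rfl, rfl⟩ | ⟨rfl, rfl⟩ | ⟨rfl, rfl⟩ | ⟨-, hwb⟩ <;>
        first
        | exact absurd d3 (by decide)
        | linarith
        | (rcases hz' with ⟨rfl, rfl⟩ | ⟨rfl, rfl⟩ | ⟨rfl, rfl⟩ | ⟨-, hzb⟩ <;>
            first
            | exact absurd d5 (by decide)
            | linarith
            | norm_num))

end Cfsg.Agent.Lib.SpecFive.Arith
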