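import Cfsg.Agent.Lib.SpecFive.Arith.Basic

/-!
The class equation with one maximal intersection.
-/

set_option autoImplicit false

namespace Cfsg.Agent.Lib.SpecFive.Arith

variable {a b c3 c5 : ℕ}

/-- One maximal intersection, quotient of order `2q`. -/
theorem unique_small_case {m q : ℕ} (ha : 1 ≤ a) (hb : 1 ≤ b)
    (h3 : c3 = 1 ∨ c3 = 2 ∨ c3 = 4 ∨ c3 = 5 ∨ c3 = 8) (d3 : c3 ∣ 3 ^ a - 1)
    (h5 : c5 = 1 ∨ c5 = 2 ∨ c5 = 3 ∨ c5 = 4 ∨ c5 = 8) (d5 : c5 ∣ 5 ^ b - 1)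
    (hq : q = 3 ∧ 1 ≤ m ∨ q = 5 ∧ 2 ≤ m)
    (eq : (1 - (1 / 4 : ℚ) ^ m) / (2 * q) + 1 / 2 + (1 - (1 / 3 : ℚ) ^ a) / c3 +
      (1 - (1 / 5 : ℚ) ^ b) / c5 + (1 / 4 : ℚ) ^ m / 2 * (1 / 3 : ℚ) ^ a * (1 / 5 : ℚ) ^ b = 1) :
    False := by
  obtain ⟨w0, w1⟩ := pow_bound (1 / 3) (by norm_num) (by norm_num) ha
  obtain ⟨z0, z1⟩ := pow_bound (1 / 5) (by norm_num) (by norm_num) hb
  rw [pow_one] at w1 z1
  generalize hw : (1 / 3 : ℚ) ^ a = w at *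
  generalize hz : (1 / 5 : ℚ) ^ b = z at *
  have hw' := cases_three ha hw
  have hz' := cases_five hb hz
  obtain ⟨hm, U, hU, u1⟩ : 1 ≤ m ∧ ∃ U : ℚ,
      (q = 3 ∧ U = 1 / 4 ∨ q = 5 ∧ U = 1 / 16) ∧ (1 / 4 : ℚ) ^ m ≤ U := by
    rcases hq with ⟨rfl, hm⟩ | ⟨rfl, hm⟩
    · exact ⟨hm, 1 / 4, by simp,
        (pow_bound _ (by norm_num) (by norm_num) hm).2.trans (by norm_num)⟩
    · exact ⟨by omega, 1 / 16, by simp,
        (pow_bound _ (by norm_num) (by norm_num) hm).2.trans (by norm_num)⟩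
  have u0 : (0 : ℚ) < (1 / 4) ^ m := pow_pos (by norm_num) m
  generalize hu : (1 / 4 : ℚ) ^ m = u at *
  have hu' := cases_four hm hu
  have t0 : 0 < u * w * z := by positivity
  have t1 : u * w * z ≤ U * (w * (1 / 5)) := by
    rw [mul_assoc]
    exact mul_le_mul u1 (mul_le_mul_of_nonneg_left z1 w0.le) (by positivity) (by linarith)
  have t2 : u * w * z ≤ U * ((1 / 3) * z) := by
    rw [mul_assoc]
    exact mul_le_mul u1 (mul_le_mul_of_nonneg_right w1 z0.le) (by positivity) (by linarith)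
  have t3 : u * w * z ≤ u * ((1 / 3) * (1 / 5)) := by
    rw [mul_assoc]
    exact mul_le_mul_of_nonneg_left (mul_le_mul w1 z1 z0.le (by norm_num)) u0.le
  clear hu hw hz hq
  rcases hU with ⟨rfl, rfl⟩ | ⟨rfl, rfl⟩ <;>
    rcases h3 with rfl | rfl | rfl | rfl | rfl <;>
    rcases h5 with rfl | rfl | rfl | rfl | rfl <;>
    first
    | linarith
    | (rcases hw' with ⟨rfl, rfl⟩ | ⟨rfl, rfl⟩ | ⟨rfl, rfl⟩ | ⟨rfl, rfl⟩ | ⟨-, hwb⟩ <;>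
        first
        | exact absurd d3 (by decide)
        | linarith
        | (rcases hz' with ⟨rfl, rfl⟩ | ⟨rfl, rfl⟩ | ⟨rfl, rfl⟩ | ⟨-, hzb⟩ <;>
            first
            | exact absurd d5 (by decide)
            | linarith
            | (rcases hu' with ⟨rfl, rfl⟩ | ⟨rfl, rfl⟩ | ⟨rfl, rfl⟩ | ⟨rfl, rfl⟩ | ⟨rfl, rfl⟩ |
                ⟨rfl, rfl⟩ | ⟨-, hub⟩ <;>
                linarith)))

/-- One maximal intersection, quotient of order sixty. -/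
theorem unique_big_case {m : ℕ} (ha : 1 ≤ a) (hb : 1 ≤ b)
    (h3 : c3 = 1 ∨ c3 = 2 ∨ c3 = 4 ∨ c3 = 5 ∨ c3 = 8) (d3 : c3 ∣ 3 ^ a - 1)
    (h5 : c5 = 1 ∨ c5 = 2 ∨ c5 = 3 ∨ c5 = 4 ∨ c5 = 8) (d5 : c5 ∣ 5 ^ b - 1)
    (hm : 2 ≤ m)
    (eq : (1 - (1 / 4 : ℚ) ^ m) / 60 + 1 / 4 + (1 - (1 / 3 : ℚ) ^ a) / c3 +
      (1 - (1 / 5 : ℚ) ^ b) / c5 + (1 / 4 : ℚ) ^ m / 4 * (1 / 3 : ℚ) ^ a * (1 / 5 : ℚ) ^ b = 1) :
    3 ^ a * 5 ^ b = 15 := by
  obtain ⟨w0, w1⟩ := pow_bound (1 / 3) (by norm_num) (by norm_num) ha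
  obtain ⟨z0, z1⟩ := pow_bound (1 / 5) (by norm_num) (by norm_num) hb
  obtain ⟨u0, u1⟩ := pow_bound (1 / 4) (by norm_num) (by norm_num) hm
  rw [pow_one] at w1 z1
  generalize hw : (1 / 3 : ℚ) ^ a = w at *
  generalize hz : (1 / 5 : ℚ) ^ b = z at *
  generalize hu : (1 / 4 : ℚ) ^ m = u at *
  have hw' := cases_three ha hw
  have hz' := cases_five hb hz
  have hu' := cases_four (show 1 ≤ m by omega) hu
  have hU : u ≤ 1 / 16 := u1.trans (by norm_num)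
  have t0 : 0 < u * w * z := by positivity
  have t1 : u * w * z ≤ (1 / 16) * (w * (1 / 5)) := by
    rw [mul_assoc]
    exact mul_le_mul hU (mul_le_mul_of_nonneg_left z1 w0.le) (by positivity) (by norm_num)
  have t2 : u * w * z ≤ (1 / 16) * ((1 / 3) * z) := by
    rw [mul_assoc]
    exact mul_le_mul hU (mul_le_mul_of_nonneg_right w1 z0.le) (by positivity) (by norm_num)
  have t3 : u * w * z ≤ u * ((1 / 3) * (1 / 5)) := by
    rw [mul_assoc]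
    exact mul_le_mul_of_nonneg_left (mul_le_mul w1 z1 z0.le (by norm_num)) u0.le
  clear hu hw hz
  rcases h3 with rfl | rfl | rfl | rfl | rfl <;>
    rcases h5 with rfl | rfl | rfl | rfl | rfl <;>
    first
    | linarith
    | (rcases hw' with ⟨rfl, rfl⟩ | ⟨rfl, rfl⟩ | ⟨rfl, rfl⟩ | ⟨rfl, rfl⟩ | ⟨-, hwb⟩ <;>
        first
        | exact absurd d3 (by decide)
        | linarith
        | (rcases hz' with ⟨rfl, rfl⟩ | ⟨rfl, rfl⟩ | ⟨rfl, rfl⟩ | ⟨-, hzb⟩ <;>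
            first
            | exact absurd d5 (by decide)
            | linarith
            | (norm_num; done)
            | (rcases hu' with ⟨rfl, rfl⟩ | ⟨rfl, rfl⟩ | ⟨rfl, rfl⟩ | ⟨rfl, rfl⟩ | ⟨rfl, rfl⟩ |
                ⟨rfl, rfl⟩ | ⟨-, hub⟩ <;>
                linarith)))

end Cfsg.Agent.Lib.SpecFive.Arith
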